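import Cfsg.Agent.Lib.Fus.OddTwoTrans.Setup
import Cfsg.Agent.Lib.Local.CoreConsumers.BorelMaximal
import Cfsg.Agent.Lib.Local.CoreConsumers.SimpleBorel
import Cfsg.Agent.Lib.Invol.GW.Consumers.Dihedral
import Cfsg.Agent.S1141
import Cfsg.Agent.S1163
import Cfsg.Agent.S0282
import Cfsg.Agent.S0252
import Cfsg.Agent.S0253
import Mathlib.FieldTheory.Finite.GaloisField

/-!
# Doubly transitive groups of odd degree: the rank one groups of characteristic two

The point stabiliser contains the 2-generated core, hence is a Sylow normaliser.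
-/

set_option autoImplicit false
set_option linter.style.haveILetI false

namespace Cfsg.Agent.Fus.OddTwoTrans

open Subgroup CoreConsumers

universe u

/-- The conclusion of the statement on the socle and the degree. -/
def Concl (K : Type u) [Group K] (n : ℕ) : Prop :=
  (∃ (F : Type) (_ : Field F) (_ : Fintype F), ringChar F = 2 ∧ n = Fintype.card F + 1 ∧
      Nonempty (K ≃* Matrix.ProjectiveSpecialLinearGroup (Fin 2) F)) ∨
    (∃ (F : Type) (_ : Field F) (_ : Fintype F) (m : ℕ), 1 ≤ m ∧ Fintype.card F = 2 ^ (2 * m + 1) ∧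
      n = Fintype.card F ^ 2 + 1 ∧ Nonempty (K ≃* ↥(Cfsg.Lie.Sz F (2 ^ (m + 1))))) ∨
    (∃ (F : Type) (_ : Field F) (_ : Fintype F) (q : ℕ), Even q ∧ Fintype.card F = q ^ 2 ∧ n = q ^ 3 + 1 ∧
      Nonempty (K ≃* Cfsg.PSU 3 F q)) ∨
    (n = 11 ∧ ((∃ (F : Type) (_ : Field F) (_ : Fintype F), Fintype.card F = 11 ∧
        Nonempty (K ≃* Matrix.ProjectiveSpecialLinearGroup (Fin 2) F)) ∨ Cfsg.Spor.IsoM11 K))

variable {K : Type u} [Group K] [Finite K] {n : ℕ}

omit [Finite K] in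
theorem Pt.sylow_le (P : Pt K n) : normalizer ((P.S : Subgroup K) : Set K) ≤ P.X := by
  obtain ⟨V, hV, hVS⟩ := P.klein_le
  exact (Fus.FourGraph.normalizer_le_core le_rfl (Fus.FourGraph.not_prankLE_of_klein hV hVS)).trans P.core_le

/-- With maximal Sylow normalisers of the known index the degree is forced. -/
theorem Pt.degree (P : Pt K n) (hM : BorelMax K) (hI : BorelIndex K) :
    n = Nat.card (P.S : Subgroup K) + 1 := by
  have h := P.index_eq
  rw [hM P.S P.X P.ne_top P.sylow_le, hI P.S] at h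
  exact h.symm

/-- Sylow subgroups of isomorphic groups have the same order. -/
theorem card_sylow_congr {M : Type*} [Group M] [Finite M] (e : K ≃* M) (S : Sylow 2 K) (T : Sylow 2 M) :
    Nat.card (S : Subgroup K) = Nat.card (T : Subgroup M) := by
  haveI : Fact (Nat.Prime 2) := ⟨Nat.prime_two⟩
  rw [S.card_eq_multiplicity, T.card_eq_multiplicity, Nat.card_congr e.toEquiv]

theorem concl_psl (P : Pt K n) {F : Type} [Field F] [Fintype F] (heven : Even (Fintype.card F))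
    (h4 : 4 ≤ Fintype.card F) (e : K ≃* Matrix.ProjectiveSpecialLinearGroup (Fin 2) F) : Concl K n := by
  haveI : Fact (Nat.Prime 2) := ⟨Nat.prime_two⟩
  have hc : CharP F 2 := by
    obtain ⟨p, hp⟩ := CharP.exists F
    haveI : Fact p.Prime := ⟨CharP.char_is_prime F p⟩
    obtain rfl : p = 2 := Dickson.p_eq_two p heven
    exact hp
  haveI := hc
  refine Or.inl ⟨F, inferInstance, inferInstance, ringChar.eq F 2, ?_, ⟨e⟩⟩
  rw [P.degree ((borel_psl heven h4).1.congr e) ((borel_psl heven h4).2.congr e)]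
  obtain ⟨T⟩ : Nonempty (Sylow 2 (Matrix.ProjectiveSpecialLinearGroup (Fin 2) F)) := inferInstance
  rw [card_sylow_congr e P.S T]
  set q := Fintype.card F with hq
  obtain ⟨f, -, hf⟩ := FiniteField.card F 2
  have hcard := Dickson.card_psl (F := F)
  rcases Dickson.del_cases F with ⟨hd, -⟩ | ⟨-, ho⟩
  · rw [hd, mul_one] at hcard
    have h1 : 2 ^ (f : ℕ) ∣ Nat.card (T : Subgroup (Matrix.ProjectiveSpecialLinearGroup (Fin 2) F)) :=
      T.pow_dvd_card_of_pow_dvd_card ⟨(q - 1) * (q + 1), by rw [hcard, hq, hf]⟩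
    obtain ⟨k, hk⟩ := IsPGroup.iff_card.1 T.isPGroup'
    have h2 : Nat.card (T : Subgroup (Matrix.ProjectiveSpecialLinearGroup (Fin 2) F)) ∣ q * ((q - 1) * (q + 1)) := hcard ▸ card_subgroup_dvd_card _
    have hodd : Odd ((q - 1) * (q + 1)) :=
      (Nat.Even.sub_odd (by omega) heven odd_one).mul (heven.add_one)
    rw [hk] at h2 h1 ⊢
    have h3 : 2 ^ k ∣ q := ((Nat.coprime_two_left.2 hodd).pow_left k).dvd_of_dvd_mul_right h2
    rw [Nat.dvd_antisymm h3 (by rw [hq, hf]; exact h1)]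
  · exact absurd heven (Nat.not_even_iff_odd.2 ho)

theorem concl_suzuki (P : Pt K n) (h : Cfsg.Lie.IsoSuzuki K) : Concl K n := by
  haveI : Fact (Nat.Prime 2) := ⟨Nat.prime_two⟩
  have h' := P.degree (borelMax_suzuki h) (borelIndex_suzuki h)
  obtain ⟨F, i1, i2, m, hm, hF, ⟨e⟩⟩ := h
  refine Or.inr (Or.inl ⟨F, i1, i2, m, hm, hF, ?_, ⟨e⟩⟩)
  obtain ⟨-, S₀, -, hidx, -, -⟩ := Cfsg.Agent.S1163.result hm hF
  have h1 := borelIndex_suzuki (L := ↥(Cfsg.Lie.Sz F (2 ^ (m + 1)))) ⟨F, i1, i2, m, hm, hF, ⟨MulEquiv.refl _⟩⟩ S₀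
  rw [hidx, ← card_sylow_congr e P.S S₀, ← h'] at h1
  rw [hF, h1]

theorem concl_psu [IsSimpleGroup K] (hnc : ¬ IsMulCommutative K) (P : Pt K n) {F : Type} [Field F] [Fintype F]
    {k : ℕ} (hk : 1 ≤ k) (hF : Fintype.card F = (2 ^ k) ^ 2) (e : K ≃* Cfsg.PSU 3 F (2 ^ k)) : Concl K n := by
  haveI : Fact (Nat.Prime 2) := ⟨Nat.prime_two⟩
  rcases hk.eq_or_lt with rfl | hk2
  · exfalso
    rw [pow_one] at hF e
    haveI := (Cfsg.Agent.S0282.result (F := F) (by rw [hF]; norm_num)).2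
    exact hnc ⟨⟨IsSimpleGroup.comm_iff_isSolvable.2
      (Group.isSolvable_of_isSolvable_injective (f := e.toMonoidHom) e.injective)⟩⟩
  have heven : Even (2 ^ k) := Nat.even_pow.2 ⟨even_two, by omega⟩
  have h4 : 4 ≤ 2 ^ k := (show 2 ^ 2 ≤ 2 ^ k from Nat.pow_le_pow_right two_pos hk2)
  obtain ⟨T⟩ : Nonempty (Sylow 2 (Cfsg.PSU 3 F (2 ^ k))) := inferInstance
  refine Or.inr (Or.inr (Or.inl ⟨F, inferInstance, inferInstance, 2 ^ k, heven, hF, ?_, ⟨e⟩⟩))
  rw [P.degree ((borel_psu hF heven h4).1.congr e) ((borel_psu hF heven h4).2.congr e),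
    card_sylow_congr e P.S T, (Cfsg.Agent.S1141.result hk2 hF T).1]

/-- `L2(5)` is `L2(4)`. -/
theorem concl_five (P : Pt K n) {F : Type} [Field F] [Fintype F] (hF : Fintype.card F = 5)
    (e : K ≃* Matrix.ProjectiveSpecialLinearGroup (Fin 2) F) : Concl K n := by
  haveI : Fact (Nat.Prime 2) := ⟨Nat.prime_two⟩
  letI : Fintype (GaloisField 2 2) := Fintype.ofFinite _
  have h4 : Fintype.card (GaloisField 2 2) = 4 := by
    rw [← Nat.card_eq_fintype_card, GaloisField.card 2 2 two_ne_zero]; norm_num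
  obtain ⟨e5⟩ := Cfsg.Agent.S0253.result hF
  obtain ⟨e4⟩ := Cfsg.Agent.S0252.result h4
  exact concl_psl P (F := GaloisField 2 2) (by rw [h4]; decide) h4.ge (e.trans (e5.trans e4.symm))

end Cfsg.Agent.Fus.OddTwoTrans
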