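import Cfsg.Agent.Lib.Fus.OddTwoTrans.Bender
import Cfsg.Agent.Lib.Classical.DicksonMaxFacts
import Cfsg.Agent.Lib.Spor.Cos.OutTwo
import Cfsg.Agent.S0799
import Cfsg.Agent.S2602

/-!
# Doubly transitive groups of odd degree: `L₂(q)` of odd characteristic

`n (n - 1)` divides `|L₂(q)| · 2f` and `|L₂(q)| / n` is the order of a subgroup in Dickson's list: this leaves
`q = 11, n = 11` and `q = 7, n = 7`.
-/

set_option autoImplicit false
set_option linter.style.haveILetI false

namespace Cfsg.Agent.Fus.OddTwoTrans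

open Subgroup

universe u

/-- The exceptional small orders, by computation. -/
theorem small_cases : ∀ q : Fin 36, ∀ f : Fin 4, ∀ h : Fin 3, 7 ≤ (q : ℕ) → (q : ℕ) % 2 = 1 →
    2 * ![12, 24, 60] h ∣ (q : ℕ) * ((q - 1) * (q + 1)) →
    (q : ℕ) * ((q - 1) * (q + 1)) / (2 * ![12, 24, 60] h) % 2 = 1 →
    (q : ℕ) * ((q - 1) * (q + 1)) / (2 * ![12, 24, 60] h) - 1 ∣ 2 * (f : ℕ) * ![12, 24, 60] h → (f : ℕ) ≠ 0 →
    ((q : ℕ) = 11 ∧ h = 2) ∨ ((q : ℕ) = 7 ∧ h = 1) := by
  decide +kernel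

theorem three_pow_ge {f : ℕ} (hf : 4 ≤ f) : 20 * f ≤ 3 ^ f := by
  induction f, hf using Nat.le_induction with
  | base => norm_num
  | succ k hk ih => rw [pow_succ]; omega

/-- The arithmetic when the stabiliser is small. -/
theorem small_order {p f q h n : ℕ} (hp : 3 ≤ p) (hf : 1 ≤ f) (hq : q = p ^ f) (hq7 : 7 ≤ q)
    (hodd : q % 2 = 1) (hn3 : 3 ≤ n) (hn : n % 2 = 1) (hhn : 2 * (h * n) = q * ((q - 1) * (q + 1)))
    (hd : n - 1 ∣ 2 * f * h) (hle : h ≤ q + 1) : False := by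
  have h0 : 0 < h := Nat.pos_of_ne_zero fun e => by
    subst e
    rw [zero_mul, mul_zero] at hhn
    rcases Nat.mul_eq_zero.1 hhn.symm with e | e
    · omega
    · rcases Nat.mul_eq_zero.1 e with e | e <;> omega
  have h1 : n - 1 ≤ 2 * f * h := Nat.le_of_dvd (Nat.mul_pos (by omega) h0) hd
  have hq3 : 3 ^ f ≤ q := hq ▸ Nat.pow_le_pow_left hp f
  obtain ⟨m, rfl⟩ : ∃ m, q = m + 1 := ⟨q - 1, by omega⟩
  rw [Nat.add_sub_cancel] at hhn
  have h2 : (m + 2) * ((m + 1) * m) ≤ (m + 2) * (2 * (2 * f * (m + 2) + 1)) := by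
    calc (m + 2) * ((m + 1) * m) = 2 * (h * n) := by rw [hhn]; ring
      _ ≤ 2 * ((m + 2) * (2 * f * (m + 2) + 1)) := by
          refine Nat.mul_le_mul_left 2 (Nat.mul_le_mul hle ?_)
          have : 2 * f * h ≤ 2 * f * (m + 2) := Nat.mul_le_mul_left _ hle
          omega
      _ = _ := by ring
  have h3 := Nat.le_of_mul_le_mul_left h2 (by omega)
  have hf3 : f ≤ 2 := by
    by_contra hcon
    have h4 : 4 * f + 7 ≤ 3 ^ f := by
      clear * - hcon
      induction f with
      | zero => omega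
      | succ k ih =>
        rcases Nat.lt_or_ge 2 k with hk | hk
        · have := ih (by omega); rw [pow_succ]; omega
        · have : k = 2 := by omega
          subst this; norm_num
    nlinarith
  have hm : m < 12 := by interval_cases f <;> nlinarith
  have hh : h < 14 := by omega
  interval_cases f
  · interval_cases m <;> omega
  · -- `q = 9`
    rw [pow_two] at hq
    have hp' : p = 3 := by nlinarith
    subst hp'
    obtain rfl : m = 8 := by omega
    norm_num at hhn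
    have hn' : n ∣ 360 := ⟨h, by linarith⟩
    have h36 : 36 ≤ n := by nlinarith
    have : n ≤ 41 := by omega
    interval_cases n <;> omega

/-- `n` is even when the stabiliser lies in a Borel subgroup. -/
theorem borel_order {q h n : ℕ} (hodd : q % 2 = 1) (hn : n % 2 = 1)
    (hhn : 2 * (h * n) = q * ((q - 1) * (q + 1))) (hd : 2 * h ∣ q * (q - 1)) (h0 : 0 < h) : False := by
  obtain ⟨k, hk⟩ := hd
  have h1 : h * n = h * (k * (q + 1)) := by
    have : 2 * (h * n) = 2 * (h * (k * (q + 1))) := by rw [hhn, ← mul_assoc, hk]; ring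
    omega
  have h2 : Even n := by
    rw [Nat.eq_of_mul_eq_mul_left h0 h1]
    exact Even.mul_left (Nat.even_iff.2 (by omega)) k
  rw [Nat.even_iff] at h2
  omega

/-- The exceptional groups `A₄`, `S₄`, `A₅`. -/
theorem exceptional_order {p f q h n : ℕ} (hp : 3 ≤ p) (hf : 1 ≤ f) (hq : q = p ^ f) (hq7 : 7 ≤ q)
    (hodd : q % 2 = 1) (hn3 : 3 ≤ n) (hn : n % 2 = 1) (hhn : 2 * (h * n) = q * ((q - 1) * (q + 1)))
    (hd : n - 1 ∣ 2 * f * h) (hh : h = 12 ∨ h = 24 ∨ h = 60) :
    (q = 11 ∧ n = 11) ∨ (q = 7 ∧ n = 7) := by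
  have hle : h ≤ 60 := by omega
  have h1 : n - 1 ≤ 120 * f :=
    (Nat.le_of_dvd (Nat.mul_pos (by omega) (by omega)) hd).trans
      (by calc 2 * f * h ≤ 2 * f * 60 := Nat.mul_le_mul_left _ hle
            _ = 120 * f := by ring)
  have hq3 : 3 ^ f ≤ q := hq ▸ Nat.pow_le_pow_left hp f
  have hb : q * ((q - 1) * (q + 1)) ≤ 120 * (120 * f + 1) := by
    rw [← hhn]
    calc 2 * (h * n) ≤ 2 * (60 * (120 * f + 1)) := Nat.mul_le_mul_left 2 (Nat.mul_le_mul hle (by omega))
      _ = _ := by ring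
  obtain ⟨m, rfl⟩ : ∃ m, q = m + 1 := ⟨q - 1, by omega⟩
  rw [Nat.add_sub_cancel] at hb
  have hf4 : f < 4 := by
    by_contra hcon
    have := three_pow_ge (Nat.not_lt.1 hcon)
    have : (m + 1) * 6400 ≤ (m + 1) * (m * (m + 1 + 1)) :=
      Nat.mul_le_mul_left _ (le_trans (by norm_num) (Nat.mul_le_mul (show 80 ≤ m by omega) (show 80 ≤ m + 1 + 1 by omega)))
    omega
  have hq36 : m + 1 < 36 := by
    by_contra hcon
    have : 36 * (35 * 37) ≤ (m + 1) * (m * (m + 1 + 1)) :=
      Nat.mul_le_mul (by omega) (Nat.mul_le_mul (by omega) (by omega))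
    omega
  have hdiv : (m + 1) * ((m + 1 - 1) * (m + 1 + 1)) / (2 * h) = n := by
    rw [← hhn, show 2 * (h * n) = 2 * h * n by ring, Nat.mul_div_cancel_left _ (by omega)]
  obtain ⟨i, hi⟩ : ∃ i : Fin 3, ![12, 24, 60] i = h := by
    rcases hh with rfl | rfl | rfl
    exacts [⟨0, rfl⟩, ⟨1, rfl⟩, ⟨2, rfl⟩]
  subst hi
  rcases small_cases ⟨m + 1, hq36⟩ ⟨f, hf4⟩ i hq7 hodd ⟨n, by rw [← hhn]; ring⟩
      (by rw [hdiv]; exact hn) (by rw [hdiv]; exact hd) (show f ≠ 0 by omega) with ⟨e1, e2⟩ | ⟨e1, e2⟩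
  · replace e1 : m + 1 = 11 := e1
    subst e2; rw [e1] at hdiv; simp only [Matrix.cons_val] at hdiv; omega
  · replace e1 : m + 1 = 7 := e1
    subst e2; rw [e1] at hdiv; simp only [Matrix.cons_val] at hdiv; omega

/-- `PGL₂` of the subfield of index two. -/
theorem subfield_two {p f q q₀ n : ℕ} (hp : 3 ≤ p) (hq : q = p ^ f) (h3 : 3 ≤ q₀)
    (hsq : q₀ ^ 2 = q) (hn3 : 3 ≤ n) (hhn : 2 * n = q₀ * (q₀ * q₀ + 1))
    (hd : n - 1 ∣ 2 * f * (q₀ * ((q₀ - 1) * (q₀ + 1)))) : False := by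
  obtain ⟨j, rfl⟩ : ∃ j, q₀ = j + 1 := ⟨q₀ - 1, by omega⟩
  rw [Nat.add_sub_cancel] at hd
  obtain ⟨i, rfl⟩ : ∃ i, n = i + 1 := ⟨n - 1, by omega⟩
  rw [Nat.add_sub_cancel] at hd
  set A := (j + 1) * (j + 1) + (j + 1) + 2 with hA
  have hi : 2 * i = j * A := by rw [hA]; linarith
  have hd2 : j * A ∣ j * (4 * f * ((j + 1) * (j + 2))) := by
    rw [← hi]
    refine (Nat.mul_dvd_mul_left 2 hd).trans (dvd_of_eq ?_)
    ring
  have hd3 := Nat.dvd_of_mul_dvd_mul_left (by omega) hd2
  have h8 : A ∣ 8 * f := by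
    have e : 4 * f * A = 4 * f * ((j + 1) * (j + 2)) + 8 * f := by rw [hA]; ring
    exact (Nat.dvd_add_right hd3).1 (e ▸ dvd_mul_left A (4 * f))
  have hf : 1 ≤ f := by
    by_contra hcon
    have : f = 0 := by omega
    subst this
    rw [pow_zero] at hq
    nlinarith
  have hle := Nat.le_of_dvd (by omega) h8
  have hq3 : 3 ^ f ≤ q := hq ▸ Nat.pow_le_pow_left hp f
  have hf2 : f ≤ 2 := by
    by_contra hcon
    have h4 : 8 * f ≤ 3 ^ f := by
      clear * - hcon
      induction f with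
      | zero => omega
      | succ k ih =>
        rcases Nat.lt_or_ge 2 k with hk | hk
        · have := ih (by omega); rw [pow_succ]; omega
        · have : k = 2 := by omega
          subst this; norm_num
    nlinarith
  have hj : j = 2 := by
    have : j < 3 := by by_contra hcon; nlinarith
    omega
  subst hj
  norm_num [hA] at h8 hle
  interval_cases f <;> omega

variable {K : Type u} [Group K] [Finite K] {n : ℕ}

theorem lin_odd (P : Pt K n) {F : Type} [Field F] [Fintype F] (hodd : Odd (Fintype.card F))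
    (h7 : 7 ≤ Fintype.card F) (e : K ≃* Matrix.ProjectiveSpecialLinearGroup (Fin 2) F) :
    (n = 11 ∧ Fintype.card F = 11) ∨ (n = 7 ∧ Fintype.card F = 7) := by
  classical
  obtain ⟨p, hp⟩ := CharP.exists F
  haveI : Fact p.Prime := ⟨CharP.char_is_prime F p⟩
  obtain ⟨f, hpp, hf⟩ := FiniteField.card F p
  have hp3 : 3 ≤ p := by
    rcases (Nat.Prime.two_le (Fact.out (p := p.Prime))).eq_or_lt with rfl | h
    · exfalso
      rw [hf] at hodd
      exact (Nat.not_even_iff_odd.2 hodd) (Nat.even_pow.2 ⟨even_two, f.ne_zero⟩)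
    · omega
  set q := Fintype.card F with hq
  haveI : NeZero (f : ℕ) := ⟨f.ne_zero⟩
  obtain ⟨φ, hφ, -, hker⟩ := Cfsg.Agent.S2602.result (F := F) (p := p) f.pos hf (by omega)
  have hgcd : Nat.gcd 2 (p ^ (f : ℕ) - 1) = 2 := by
    refine Nat.gcd_eq_left ?_
    rw [← hf]
    have := Nat.odd_iff.1 hodd
    omega
  have hout : Nat.card (Cfsg.Out K) = 2 * f := by
    rw [Spor.Cos.card_out_congr e, ← card_mul_index φ.ker, hker, hgcd, index_ker,
      MonoidHom.range_eq_top.2 hφ, card_top, Nat.card_congr Multiplicative.toAdd, Nat.card_zmod]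
  set H := P.X.map e.toMonoidHom
  set h := Nat.card P.X with hh
  have hH : Nat.card H = h := card_map_of_injective e.injective
  have hKn : h * n = Nat.card K := (congrArg (h * ·) P.index_eq).symm.trans (card_mul_index P.X)
  have hcard : 2 * (h * n) = q * ((q - 1) * (q + 1)) := by
    rw [hKn, Nat.card_congr e.toEquiv, hq]
    exact Invol.GW.card_PSLTwo hodd
  have hn3 := P.three_le
  have hn : n % 2 = 1 := Nat.odd_iff.1 P.odd
  have hq2 : q % 2 = 1 := Nat.odd_iff.1 hodd
  have hd : n - 1 ∣ 2 * f * h := by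
    have h1 := P.dvd
    rw [hout, show Nat.card K = n * h by rw [← hKn, mul_comm], mul_assoc] at h1
    exact (Nat.dvd_of_mul_dvd_mul_left (by omega) h1).trans (dvd_of_eq (mul_comm _ _))
  have h0 : 0 < h := Nat.card_pos
  have small := small_order hp3 f.pos hf h7 hq2 hn3 hn hcard hd
  have exc := exceptional_order hp3 f.pos hf h7 hq2 hn3 hn hcard hd
  have hgq : Nat.gcd 2 (q - 1) = 2 := hf ▸ hgcd
  rcases Cfsg.Agent.S0799.result hq.symm p H with ⟨k, hk, hshape⟩ | ⟨Q, L, hL, ⟨i⟩⟩ | ⟨⟨i⟩⟩ | ⟨⟨i⟩⟩ | ⟨⟨i⟩⟩ |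
    ⟨F₀, j1, j2, m, hm, hiso⟩
  · exfalso
    rw [hgq] at hk
    have hk2 : 2 * k ≤ q + 1 := by
      rcases hk with hk | hk <;> have := Nat.le_of_dvd (by omega) hk <;> omega
    refine small ?_
    rw [← hH]
    rcases hshape with ⟨-, hc⟩ | ⟨⟨i⟩⟩
    · omega
    · rw [Nat.card_congr i.toEquiv, DihedralGroup.nat_card]; exact hk2
  · exfalso
    refine borel_order hq2 hn hcard ?_ h0
    have hNdvd : h ∣ Nat.card (normalizer ((Q : Subgroup (Matrix.ProjectiveSpecialLinearGroup (Fin 2) F)) :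
        Set (Matrix.ProjectiveSpecialLinearGroup (Fin 2) F))) := by
      rw [← hH, Nat.card_congr i.toEquiv]
      exact card_dvd_of_le hL
    have hN : 2 * Nat.card (normalizer ((Q : Subgroup (Matrix.ProjectiveSpecialLinearGroup (Fin 2) F)) :
        Set (Matrix.ProjectiveSpecialLinearGroup (Fin 2) F))) =
        q * (q - 1) := by
      obtain ⟨a, ha⟩ := exists_prime_orderOf_dvd_card' (G := Matrix.ProjectiveSpecialLinearGroup (Fin 2) F) p (by
        have h2 : p ∣ 2 * (h * n) := by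
          rw [hcard, hf]
          exact (dvd_pow_self p f.ne_zero).mul_right _
        have h3 := ((Nat.coprime_primes (Fact.out (p := p.Prime)) Nat.prime_two).2 (by omega)).dvd_of_dvd_mul_left h2
        rw [← Nat.card_congr e.toEquiv, ← hKn]
        exact h3)
      obtain ⟨hap, ha1⟩ := orderOf_eq_prime_iff.1 ha
      have hT := Dickson.card_tor_uni p ha1 hap
      have hTp : IsPGroup p ↥(Dickson.tor a) := IsPGroup.of_card (n := (f : ℕ)) (by rw [hT, ← hq, hf])
      obtain ⟨R, hR⟩ := hTp.exists_le_sylow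
      have hR' : (R : Subgroup (Matrix.ProjectiveSpecialLinearGroup (Fin 2) F)) = Dickson.tor a := by
        refine (eq_of_le_of_card_ge hR ?_).symm
        obtain ⟨r, hr⟩ := IsPGroup.iff_card.1 R.isPGroup'
        have h2 : Nat.card (R : Subgroup (Matrix.ProjectiveSpecialLinearGroup (Fin 2) F)) ∣ q * ((q - 1) * (q + 1)) := by
          rw [← hcard]
          refine (card_subgroup_dvd_card _).trans ?_
          rw [← Nat.card_congr e.toEquiv, ← hKn]
          exact dvd_mul_left _ _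
        have hcop : (p ^ r).Coprime ((q - 1) * (q + 1)) := by
          refine Nat.Coprime.pow_left r (((Fact.out (p := p.Prime)).coprime_iff_not_dvd).2 fun hdv => ?_)
          have hpq : p ∣ q := by rw [hf]; exact dvd_pow_self p f.ne_zero
          rcases (Fact.out (p := p.Prime)).dvd_mul.1 hdv with h' | h'
          · have := Nat.dvd_sub hpq h'
            rw [Nat.sub_sub_self (by omega : 1 ≤ q)] at this
            have := Nat.le_of_dvd one_pos this
            omega
          · have := (Nat.dvd_add_right hpq).1 h'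
            have := Nat.le_of_dvd one_pos this
            omega
        rw [hT, ← hq]
        exact Nat.le_of_dvd (by omega) (hr ▸ hcop.dvd_of_dvd_mul_right (hr ▸ h2))
      obtain ⟨g, rfl⟩ := MulAction.exists_smul_eq (Matrix.ProjectiveSpecialLinearGroup (Fin 2) F) R Q
      have hb := Dickson.card_borel p ha1 hap
      rcases Dickson.del_cases F with ⟨-, he⟩ | ⟨hdel, -⟩
      · exact absurd he (Nat.not_even_iff_odd.2 hodd)
      rw [hdel, ← hR', mul_comm] at hb
      rw [Sylow.coe_subgroup_smul, Subgroup.pointwise_smul_def,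
        show (MulDistribMulAction.toMonoidEnd _ _ (MulAut.conj g) :
          Matrix.ProjectiveSpecialLinearGroup (Fin 2) F →* Matrix.ProjectiveSpecialLinearGroup (Fin 2) F) =
            (MulAut.conj g).toMonoidHom from rfl, ← map_equiv_normalizer_eq,
        card_map_of_injective (MulAut.conj g).injective]
      exact hb
    rw [← hN]
    exact Nat.mul_dvd_mul_left 2 hNdvd
  · rcases exc (Or.inl (by rw [← hH, Nat.card_congr i.toEquiv, nat_card_alternatingGroup, Nat.card_fin]; rfl))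
      with ⟨a, b⟩ | ⟨a, b⟩
    exacts [Or.inl ⟨b, a⟩, Or.inr ⟨b, a⟩]
  · rcases exc (Or.inr (Or.inl (by rw [← hH, Nat.card_congr i.toEquiv, Nat.card_perm, Nat.card_fin]; rfl)))
      with ⟨a, b⟩ | ⟨a, b⟩
    exacts [Or.inl ⟨b, a⟩, Or.inr ⟨b, a⟩]
  · rcases exc (Or.inr (Or.inr (by rw [← hH, Nat.card_congr i.toEquiv, nat_card_alternatingGroup, Nat.card_fin]; rfl)))
      with ⟨a, b⟩ | ⟨a, b⟩
    exacts [Or.inl ⟨b, a⟩, Or.inr ⟨b, a⟩]
  · exfalso
    letI := j1; letI := j2
    set q₀ := Fintype.card F₀ with hq0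
    have hq01 : 1 < q₀ := Fintype.one_lt_card
    have hm0 : m ≠ 0 := fun e => by rw [e, pow_zero] at hm; omega
    have hq0odd : q₀ % 2 = 1 := by
      by_contra hcon
      have : Even (q₀ ^ m) := (Nat.even_iff.2 (by omega)).pow_of_ne_zero hm0
      rw [hm, Nat.even_iff] at this
      omega
    have hh0 : h * 2 = q₀ * ((q₀ - 1) * (q₀ + 1)) ∨ h = q₀ * ((q₀ - 1) * (q₀ + 1)) := by
      rcases hiso with ⟨⟨i⟩⟩ | ⟨⟨i⟩⟩ <;> rw [← hH, Nat.card_congr i.toEquiv]
      · left
        rw [mul_comm, Invol.GW.card_PSLTwo (Nat.odd_iff.2 hq0odd)]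
      · exact Or.inr (Dickson.card_pgl F₀)
    obtain ⟨r, hr⟩ : ∃ r, q₀ = r + 1 := ⟨q₀ - 1, by omega⟩
    rcases Nat.lt_or_ge m 2 with hm2 | hm2
    · have : m = 1 := by omega
      subst this
      rw [pow_one] at hm
      rw [hm] at hh0
      rcases hh0 with e0 | e0 <;> rw [← e0] at hcard <;> nlinarith
    rcases hm2.eq_or_lt with rfl | hm3
    · have hsq : q₀ ^ 2 = q := hm
      have e2 : q * ((q - 1) * (q + 1)) = (q₀ * ((q₀ - 1) * (q₀ + 1))) * (q₀ * (q₀ * q₀ + 1)) := by
        rw [← hsq, hr, Nat.add_sub_cancel, show (r + 1) ^ 2 - 1 = r * (r + 2) by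
          rw [Nat.sub_eq_iff_eq_add (Nat.one_le_pow _ _ (by omega))]; ring]
        ring
      rcases hh0 with e0 | e0
      · rw [e2, ← e0] at hcard
        have h2 : n = q₀ * (q₀ * q₀ + 1) := Nat.eq_of_mul_eq_mul_left (Nat.mul_pos h0 two_pos)
          (by linarith)
        have : Even n := h2 ▸ Even.mul_left (Nat.even_add_one.2 (Nat.not_even_iff_odd.2
          ((Nat.odd_iff.2 hq0odd).mul (Nat.odd_iff.2 hq0odd)))) q₀
        rw [Nat.even_iff] at this
        omega
      · rw [e2, ← e0] at hcard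
        refine subfield_two hp3 hf (by omega) hsq hn3 (Nat.eq_of_mul_eq_mul_left h0 (by linarith)) ?_
        rw [← e0]
        exact hd
    · refine small ?_
      have h3 : q₀ ^ 3 ≤ q := hm ▸ Nat.pow_le_pow_right (by omega) hm3
      have : q₀ * ((q₀ - 1) * (q₀ + 1)) ≤ q₀ ^ 3 := by
        rw [hr, Nat.add_sub_cancel]; ring_nf; omega
      rcases hh0 with e0 | e0 <;> omega

end Cfsg.Agent.Fus.OddTwoTrans
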