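import Cfsg.Agent.Lib.Fus.OddTwoTrans.Bender
import Cfsg.Agent.Lib.Fus.MathieuTwoGroups
import Cfsg.Agent.Lib.Fus.CentTwoPSL.Gl
import Cfsg.Agent.Lib.Spor.J1.Structure
import Cfsg.Agent.Lib.Spor.Cos.OutTwo
import Cfsg.Agent.S0435
import Cfsg.Agent.S2060
import Cfsg.Agent.S2065

/-!
# Doubly transitive groups of odd degree: `M₁₁` has degree 11 and `J₁` does not occur
-/

set_option autoImplicit false
set_option linter.style.haveILetI false

namespace Cfsg.Agent.Fus.OddTwoTrans

open Subgroup

universe u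

variable {K : Type u} [Group K] [Finite K] {n : ℕ}

omit [Finite K] in
theorem Pt.card_eq (P : Pt K n) : Nat.card P.X * n = Nat.card K :=
  (congrArg (Nat.card P.X * ·) P.index_eq).symm.trans (card_mul_index P.X)

/-- A simple group is embedded in the symmetric group on the cosets of `X`. -/
theorem Pt.dvd_factorial [IsSimpleGroup K] (P : Pt K n) : Nat.card K ∣ n.factorial := by
  classical
  have hcore : (MulAction.toPermHom K (K ⧸ P.X)).ker = ⊥ := by
    rw [← normalCore_eq_ker]
    exact (normalCore_normal P.X).eq_bot_or_eq_top.resolve_right fun e =>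
      P.ne_top (top_le_iff.1 (e ▸ normalCore_le P.X))
  have h := card_dvd_of_injective _ ((MonoidHom.ker_eq_bot_iff _).1 hcore)
  rwa [Nat.card_perm, ← index_eq_card, P.index_eq] at h

/-- In a group of order `n = 176` a Sylow 11-subgroup is centralised by an involution. -/
theorem exists_commute_eleven {X : Type*} [Group X] [Finite X] (hX : Nat.card X = 176) :
    ∃ x y : X, orderOf x = 11 ∧ orderOf y = 2 ∧ Commute x y := by
  haveI : Fact (Nat.Prime 11) := ⟨by norm_num⟩
  haveI : Fact (Nat.Prime 2) := ⟨Nat.prime_two⟩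
  obtain ⟨R⟩ : Nonempty (Sylow 11 X) := inferInstance
  have hR : Nat.card (R : Subgroup X) = 11 := by
    rw [R.card_eq_multiplicity, hX, show (176 : ℕ) = 11 * 16 by norm_num,
      Nat.factorization_mul (by norm_num) (by norm_num), Finsupp.add_apply,
      Nat.Prime.factorization_self (by norm_num),
      Nat.factorization_eq_zero_of_not_dvd (by norm_num : ¬ 11 ∣ 16), add_zero, pow_one]
  have h1 : Nat.card (Sylow 11 X) ∣ 16 := by
    have h := R.card_dvd_index
    have h2 := card_mul_index (R : Subgroup X)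
    rw [hR, hX] at h2
    rwa [show (R : Subgroup X).index = 16 by omega] at h
  have h2 : Nat.card (Sylow 11 X) = 1 := by
    have hle := Nat.le_of_dvd (by norm_num) h1
    have hmod := card_sylow_modEq_one 11 X
    unfold Nat.ModEq at hmod
    interval_cases Nat.card (Sylow 11 X) <;> omega
  haveI : Subsingleton (Sylow 11 X) := (Nat.card_eq_one_iff_unique.1 h2).1
  haveI : (R : Subgroup X).Normal := Sylow.normal_of_subsingleton R
  haveI : IsCyclic (R : Subgroup X) := isCyclic_of_prime_card hR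
  let f : X →* MulAut (R : Subgroup X) := MulAut.conjNormal
  have hdiv : 2 ∣ Nat.card f.ker := by
    have h3 : Nat.card f.range ∣ 10 := by
      refine (card_subgroup_dvd_card _).trans ?_
      rw [IsCyclic.card_mulAut, hR, Nat.totient_prime (by norm_num)]
    have h4 := card_mul_index f.ker
    rw [index_ker, hX] at h4
    have h5 : 176 ∣ Nat.card f.ker * 10 := h4 ▸ Nat.mul_dvd_mul_left _ h3
    omega
  obtain ⟨y, hy⟩ := exists_prime_orderOf_dvd_card' 2 hdiv
  obtain ⟨x, hx⟩ := exists_prime_orderOf_dvd_card' (G := (R : Subgroup X)) 11 (by rw [hR])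
  refine ⟨x, y, (Subgroup.orderOf_coe x).trans hx, (Subgroup.orderOf_coe y).trans hy, ?_⟩
  have h6 : (y : X) * x * (y : X)⁻¹ = x := congrArg Subtype.val (DFunLike.congr_fun y.2 x)
  exact (mul_inv_eq_iff_eq_mul.1 h6).symm

theorem concl_m11 [IsSimpleGroup K] (P : Pt K n) (h : Cfsg.Spor.IsoM11 K) : Concl K n := by
  refine Or.inr (Or.inr (Or.inr ⟨?_, Or.inr h⟩))
  obtain ⟨e⟩ := h
  have hK : Nat.card K = 7920 := (Nat.card_congr e.toEquiv).trans Fus.Mathieu.card11
  have hd := P.dvd
  rw [Spor.Cos.card_out_congr e, Cfsg.Agent.S2060.result, mul_one, hK] at hd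
  have h3 := P.three_le
  have hodd := Nat.odd_iff.1 P.odd
  have hn : n ∣ 495 := by
    have h1 : n ∣ 16 * 495 := (dvd_mul_right n (n - 1)).trans hd
    exact (Nat.Coprime.pow_right 4 (Nat.coprime_two_right.2 P.odd)).dvd_of_dvd_mul_left h1
  have hcases : n = 3 ∨ n = 5 ∨ n = 9 ∨ n = 11 ∨ n = 45 := by
    have key : ∀ m ∈ Nat.divisors 495, 3 ≤ m → m * (m - 1) ∣ 7920 → m = 3 ∨ m = 5 ∨ m = 9 ∨ m = 11 ∨ m = 45 := by
      decide +kernel
    exact key n (Nat.mem_divisors.2 ⟨hn, by norm_num⟩) h3 hd
  have hf := P.dvd_factorial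
  rw [hK] at hf
  rcases hcases with h' | h' | h' | h' | h'
  · rw [h'] at hf; norm_num [Nat.factorial] at hf
  · rw [h'] at hf; norm_num [Nat.factorial] at hf
  · rw [h'] at hf; norm_num [Nat.factorial] at hf
  · exact h'
  · exfalso
    subst h'
    have hX : Nat.card P.X = 176 := by
      have := P.card_eq
      rw [hK] at this
      omega
    obtain ⟨x, y, hx, hy, hc⟩ := exists_commute_eleven hX
    have h48 := Cfsg.Agent.S0435.result (G := K) ⟨inferInstance, hK⟩ (y : K) ((Subgroup.orderOf_coe y).trans hy)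
    have hmem : (x : K) ∈ centralizer ({(y : K)} : Set K) :=
      mem_centralizer_singleton_iff.2 (congrArg Subtype.val hc.eq)
    have h11 := Subgroup.orderOf_dvd_natCard _ hmem
    rw [Subgroup.orderOf_coe, hx, h48] at h11
    omega

/-- No nontrivial element of an abelian Sylow subgroup of a nonabelian simple group is fixed by its normaliser. -/
theorem no_fixed [IsSimpleGroup K] (hnc : ¬ IsMulCommutative K) (S : Sylow 2 K)
    [IsMulCommutative (S : Subgroup K)] {u : K} (hu : u ∈ (S : Subgroup K))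
    (hfix : ∀ g ∈ normalizer ((S : Subgroup K) : Set K), g * u * g⁻¹ = u) : u = 1 := by
  haveI : Fact (Nat.Prime 2) := ⟨Nat.prime_two⟩
  haveI : (S : Subgroup K).FiniteIndex := inferInstance
  letI : CommGroup (S : Subgroup K) :=
    { (inferInstance : Group (S : Subgroup K)) with mul_comm := (inferInstance : IsMulCommutative (S : Subgroup K)).is_comm.comm }
  let φ : (S : Subgroup K) →* (S : Subgroup K) := MonoidHom.id _
  have key : ∀ (k : ℕ) (g₀ : K), g₀⁻¹ * u ^ k * g₀ ∈ (S : Subgroup K) → g₀⁻¹ * u ^ k * g₀ = u ^ k := by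
    intro k g₀ h
    obtain ⟨m, hm, e⟩ := S.conj_eq_normalizer_conj_of_mem (u ^ k) g₀ (pow_mem hu k) h
    rw [e]
    have h1 : (m⁻¹ * u * m⁻¹⁻¹) ^ k = u ^ k := by rw [hfix m⁻¹ (inv_mem hm)]
    rw [conj_pow, inv_inv] at h1
    exact h1
  have h1 := MonoidHom.transfer_eq_pow φ u key
  rcases (inferInstance : (MonoidHom.transfer φ).ker.Normal).eq_bot_or_eq_top with e | e
  · exfalso
    refine hnc ⟨⟨fun a b => (MonoidHom.ker_eq_bot_iff _).1 e ?_⟩⟩
    rw [map_mul, map_mul, mul_comm]
  · have h2 : u ^ (S : Subgroup K).index = 1 := by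
      have h3 : MonoidHom.transfer φ u = 1 := MonoidHom.mem_ker.1 (by rw [e]; exact mem_top u)
      rw [h1] at h3
      exact congrArg Subtype.val h3
    obtain ⟨k, hk⟩ := IsPGroup.iff_card.1 S.isPGroup'
    have h3 : orderOf u ∣ 2 ^ k := hk ▸ Subgroup.orderOf_dvd_natCard _ hu
    have h4 : Nat.Coprime (2 ^ k) (S : Subgroup K).index :=
      Nat.Coprime.pow_left k ((Nat.prime_two.coprime_iff_not_dvd).2 S.not_dvd_index)
    exact orderOf_eq_one_iff.1 (Nat.eq_one_of_dvd_coprimes h4 h3 (orderOf_dvd_of_pow_eq_one h2))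

/-- Seven divides the normaliser of an elementary abelian Sylow subgroup of order eight. -/
theorem seven_dvd [IsSimpleGroup K] (hnc : ¬ IsMulCommutative K) (S : Sylow 2 K)
    (h8 : Nat.card (S : Subgroup K) = 8) (hexp : ∀ u : (S : Subgroup K), u * u = 1) :
    7 ∣ Nat.card (normalizer ((S : Subgroup K) : Set K)) := by
  classical
  haveI : Fact (Nat.Prime 2) := ⟨Nat.prime_two⟩
  haveI : Fact (Nat.Prime 3) := ⟨Nat.prime_three⟩
  have hcomm : ∀ u v : (S : Subgroup K), u * v = v * u := fun u v => by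
    calc u * v = (u * v)⁻¹ := eq_inv_of_mul_eq_one_left (hexp _)
      _ = v * u := by rw [mul_inv_rev, inv_eq_of_mul_eq_one_left (hexp u), inv_eq_of_mul_eq_one_left (hexp v)]
  haveI : IsMulCommutative (S : Subgroup K) := ⟨⟨hcomm⟩⟩
  letI : CommGroup (S : Subgroup K) := { (inferInstance : Group (S : Subgroup K)) with mul_comm := hcomm }
  set N := normalizer ((S : Subgroup K) : Set K)
  let f : N →* MulAut (S : Subgroup K) := (S : Subgroup K).normalizerMonoidHom
  have hval : ∀ (g : N) (u : (S : Subgroup K)), ((f g u : (S : Subgroup K)) : K) = g * u * (g : K)⁻¹ :=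
    fun g u => rfl
  obtain ⟨ψ, hψ⟩ := CentTwoPSL.exists_embed h8 hexp
  have h168 : Nat.card f.range ∣ 168 :=
    CentTwoPSL.card_gl ▸ (card_subgroup_dvd_card _).trans (card_dvd_of_injective ψ hψ)
  have hdvd : Nat.card f.range ∣ Nat.card N := card_range_dvd f
  by_contra h7
  have hodd : ¬ 2 ∣ Nat.card f.range := by
    intro h2
    have hle : ((S : Subgroup K).subgroupOf N) ≤ f.ker := fun g hg => MulEquiv.ext fun u => Subtype.ext (by
      rw [hval]
      have h1 : (g : K) * u = u * (g : K) := congrArg Subtype.val (hcomm ⟨g, mem_subgroupOf.1 hg⟩ u)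
      rw [h1, mul_inv_cancel_right]; rfl)
    have h3 : 2 ∣ (S : Subgroup K).relIndex N := by
      refine h2.trans ?_
      rw [← index_ker]
      exact index_dvd_of_le hle
    exact S.not_dvd_index (h3.trans (relIndex_dvd_index_of_le le_normalizer))
  have h3 : Nat.card f.range ∣ 3 := by
    have h4 : ¬ 7 ∣ Nat.card f.range := fun h => h7 (h.trans hdvd)
    have key : ∀ d ∈ Nat.divisors 168, ¬ 2 ∣ d → ¬ 7 ∣ d → d ∣ 3 := by decide +kernel
    exact key _ (Nat.mem_divisors.2 ⟨h168, by norm_num⟩) hodd h4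
  have hp : IsPGroup 3 f.range := by
    obtain ⟨j, -, hj⟩ := (Nat.dvd_prime_pow Nat.prime_three).1 (show Nat.card f.range ∣ 3 ^ 1 by simpa using h3)
    exact IsPGroup.of_card hj
  have hm := hp.card_modEq_card_fixedPoints (S : Subgroup K)
  rw [h8] at hm
  obtain ⟨u, hu, hu1⟩ : ∃ u ∈ MulAction.fixedPoints f.range (S : Subgroup K), u ≠ 1 := by
    by_contra hno
    push Not at hno
    have : Nat.card (MulAction.fixedPoints f.range (S : Subgroup K)) ≤ 1 :=
      Finite.card_le_one_iff_subsingleton.2 ⟨fun a b => Subtype.ext ((hno a a.2).trans (hno b b.2).symm)⟩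
    unfold Nat.ModEq at hm
    omega
  refine hu1 (Subtype.ext (no_fixed hnc S u.2 fun g hg => ?_))
  have h5 : f ⟨g, hg⟩ u = u := hu ⟨f ⟨g, hg⟩, ⟨⟨g, hg⟩, rfl⟩⟩
  rw [← hval ⟨g, hg⟩ u, h5]

theorem not_j1 [IsSimpleGroup K] (hnc : ¬ IsMulCommutative K) (P : Pt K n) (h : Cfsg.Spor.IsoJ1 K) : False := by
  haveI : Fact (Nat.Prime 2) := ⟨Nat.prime_two⟩
  haveI : Fact (Nat.Prime 7) := ⟨by norm_num⟩
  obtain ⟨e⟩ := h
  have hK : Nat.card K = 175560 := (Nat.card_congr e.toEquiv).trans J1Cert.card_J1
  have hord : ∀ x : K, orderOf x ∈ ({1, 2, 3, 5, 6, 7, 10, 11, 15, 19} : Set ℕ) := fun x => by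
    rw [← J1Cert.range_orderOf, ← MulEquiv.orderOf_eq e x]
    exact Set.mem_range_self _
  have hd := P.dvd
  rw [Spor.Cos.card_out_congr e, Cfsg.Agent.S2065.result, mul_one, hK] at hd
  have h3 := P.three_le
  have hn : n ∣ 21945 := by
    have h1 : n ∣ 8 * 21945 := (dvd_mul_right n (n - 1)).trans hd
    exact (Nat.Coprime.pow_right 3 (Nat.coprime_two_right.2 P.odd)).dvd_of_dvd_mul_left h1
  have hcases : n = 21 ∨ n = 57 ∨ n = 77 ∨ n = 133 := by
    have key : ∀ m ∈ [3, 5, 7, 11, 15, 19, 21, 33, 35, 55, 57, 77, 95, 105, 133, 165, 209, 231, 285, 385, 399, 627,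
        665, 1045, 1155, 1463, 1995, 3135, 4389, 7315, 21945], m * (m - 1) ∣ 175560 →
        m < 19 ∨ m = 21 ∨ m = 57 ∨ m = 77 ∨ m = 133 := by decide +kernel
    have hdivs : Nat.divisors 21945 ⊆ ([1, 3, 5, 7, 11, 15, 19, 21, 33, 35, 55, 57, 77, 95, 105, 133, 165, 209, 231,
        285, 385, 399, 627, 665, 1045, 1155, 1463, 1995, 3135, 4389, 7315, 21945] : List ℕ).toFinset := by
      decide +kernel
    have hmem := hdivs (Nat.mem_divisors.2 ⟨hn, by norm_num⟩)
    rw [List.mem_toFinset, List.mem_cons] at hmem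
    rcases key n (hmem.resolve_left (by omega)) hd with hlt | h'
    · exfalso
      have h19 : Nat.Prime 19 := by norm_num
      have := (h19.dvd_factorial).1 ((show 19 ∣ Nat.card K by rw [hK]; norm_num).trans P.dvd_factorial)
      omega
    · exact h'
  have h8 : Nat.card (P.S : Subgroup K) = 8 := by
    rw [P.S.card_eq_multiplicity, hK, show (175560 : ℕ) = 2 ^ 3 * 21945 by norm_num,
      Nat.factorization_mul (by norm_num) (by norm_num), Finsupp.add_apply,
      Nat.Prime.factorization_pow Nat.prime_two, Finsupp.single_eq_same,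
      Nat.factorization_eq_zero_of_not_dvd (by norm_num : ¬ 2 ∣ 21945), add_zero]
    rfl
  have hexp : ∀ u : (P.S : Subgroup K), u * u = 1 := fun u => by
    have h1 : orderOf (u : K) ∣ 2 ^ 3 := by
      rw [Subgroup.orderOf_coe]
      exact (orderOf_dvd_natCard u).trans (dvd_of_eq h8)
    obtain ⟨j, hj, hj'⟩ := (Nat.dvd_prime_pow Nat.prime_two).1 h1
    have h2 := hord (u : K)
    rw [hj'] at h2
    have hj1 : j ≤ 1 := by
      interval_cases j <;> simp at h2 <;> omega
    have h4 : orderOf (u : K) ∣ 2 := hj' ▸ (pow_dvd_pow 2 hj1)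
    refine Subtype.ext ?_
    rw [Subgroup.coe_mul, ← pow_two]
    exact orderOf_dvd_iff_pow_eq_one.1 h4
  have h7 : 7 ∣ Nat.card P.X := (seven_dvd hnc P.S h8 hexp).trans (card_dvd_of_le P.sylow_le)
  have hc := P.card_eq
  rw [hK] at hc
  rcases hcases with h' | h' | h' | h' <;> subst h'
  · omega
  · -- `n = 57`
    have hX : Nat.card P.X = 3080 := by omega
    obtain ⟨R⟩ : Nonempty (Sylow 7 P.X) := inferInstance
    have hR : Nat.card (R : Subgroup P.X) = 7 := by
      rw [R.card_eq_multiplicity, hX, show (3080 : ℕ) = 7 * 440 by norm_num,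
        Nat.factorization_mul (by norm_num) (by norm_num), Finsupp.add_apply,
        Nat.Prime.factorization_self (by norm_num),
        Nat.factorization_eq_zero_of_not_dvd (by norm_num : ¬ 7 ∣ 440), add_zero, pow_one]
    haveI : IsCyclic (R : Subgroup P.X) := isCyclic_of_prime_card hR
    obtain ⟨x, hx⟩ := exists_prime_orderOf_dvd_card' (G := (R : Subgroup P.X)) 7 (by rw [hR])
    let f := (R : Subgroup P.X).normalizerMonoidHom
    have hker : Nat.card f.ker ∣ 7 := by
      obtain ⟨j, hj⟩ : ∃ j, Nat.card f.ker = 7 ^ j := by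
        refine ⟨_, Nat.eq_prime_pow_of_unique_prime_dvd Nat.card_pos.ne' fun {r} hr hrd => ?_⟩
        by_contra hne
        haveI := Fact.mk hr
        obtain ⟨y, hy⟩ := exists_prime_orderOf_dvd_card' r hrd
        set y' : P.X := ((y : normalizer ((R : Subgroup P.X) : Set P.X)) : P.X) with hy'
        have hc1 : y' * (x : P.X) * y'⁻¹ = x := congrArg Subtype.val (DFunLike.congr_fun y.2 x)
        have hcomm : Commute (x : P.X) y' := (mul_inv_eq_iff_eq_mul.1 hc1).symm
        have hy2 : orderOf y' = r := by rw [hy', Subgroup.orderOf_coe, Subgroup.orderOf_coe, hy]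
        have hx2 : orderOf (x : P.X) = 7 := by rw [Subgroup.orderOf_coe, hx]
        have ho := hcomm.orderOf_mul_eq_mul_orderOf_of_coprime (by
          rw [hx2, hy2]; exact (Nat.coprime_primes (by norm_num) hr).2 (Ne.symm hne))
        rw [hx2, hy2, ← Subgroup.orderOf_coe] at ho
        have h10 := hord (((x : P.X) * y' : P.X) : K)
        rw [ho] at h10
        have := hr.two_le
        simp only [Set.mem_insert_iff, Set.mem_singleton_iff] at h10
        omega
      have hdiv : 7 ^ j ∣ 3080 := by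
        rw [← hj, ← hX]
        exact (card_subgroup_dvd_card _).trans (card_subgroup_dvd_card _)
      rcases Nat.lt_or_ge j 2 with h2 | h2
      · rw [hj]; interval_cases j <;> norm_num
      · exfalso
        have := (pow_dvd_pow 7 h2).trans hdiv
        norm_num at this
    have hN : Nat.card (normalizer ((R : Subgroup P.X) : Set P.X)) ∣ 14 := by
      have h1 : Nat.card (normalizer ((R : Subgroup P.X) : Set P.X)) ∣ 7 * 6 := by
        rw [← card_mul_index f.ker, index_ker]
        refine Nat.mul_dvd_mul hker ((card_subgroup_dvd_card _).trans ?_)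
        rw [IsCyclic.card_mulAut, hR, Nat.totient_prime (by norm_num)]
      have h2 := card_subgroup_dvd_card (normalizer ((R : Subgroup P.X) : Set P.X))
      rw [hX] at h2
      exact (Nat.dvd_gcd h1 h2).trans (by norm_num)
    have hS := card_sylow_modEq_one 7 P.X
    rw [R.card_eq_index_normalizer] at hS
    have hI := card_mul_index (normalizer ((R : Subgroup P.X) : Set P.X))
    rw [hX] at hI
    have hle := Nat.le_of_dvd (by norm_num) hN
    unfold Nat.ModEq at hS
    generalize Nat.card (normalizer ((R : Subgroup P.X) : Set P.X)) = a at *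
    generalize (normalizer ((R : Subgroup P.X) : Set P.X)).index = b at *
    interval_cases a <;> omega
  · omega
  · omega

end Cfsg.Agent.Fus.OddTwoTrans
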