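import Cfsg.Agent.Lib.Fus.OddTwoTrans.LinOdd
import Cfsg.Agent.Lib.Fus.OddTwoTrans.Sporadic
import Cfsg.Agent.Lib.Invol.ProperCore.Basic

/-!
# Doubly transitive groups of odd degree with two-point stabiliser of rank one, from the classification of
simple groups with a proper 2-generated core
-/

set_option autoImplicit false
set_option linter.style.haveILetI false

namespace Cfsg.Agent.Fus.OddTwoTrans

open Subgroup MulAction

universe u v

/-- The classification of simple groups with a proper 2-generated core, as an input. -/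
abbrev CoreInput : Prop :=
  ∀ (K : Type u) [Group K] [Finite K] [IsSimpleGroup K],
    ¬ IsMulCommutative K → Cfsg.HasProperTwoGeneratedCore K → Invol.ProperCore.Listed K

/-- The identification of the socle and the degree; `L₂(7)` of degree seven is left over. -/
theorem identify {K : Type u} [Group K] [Finite K] [IsSimpleGroup K] (hnc : ¬ IsMulCommutative K) {n : ℕ}
    (P : Pt K n) (hL : Invol.ProperCore.Listed K) : Concl K n ∨ (n = 7 ∧ Nat.card K = 168) := by
  rcases hL with ⟨F, i1, i2, h3, ⟨e⟩⟩ | h | ⟨F, i1, i2, k, hk, hF, ⟨e⟩⟩ | h | h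
  · rcases Nat.even_or_odd (Fintype.card F) with hev | hodd
    · refine Or.inl (concl_psl P hev ?_ e)
      rw [Nat.even_iff] at hev
      omega
    rcases Nat.lt_or_ge (Fintype.card F) 7 with h7 | h7
    · have hF : Fintype.card F = 3 ∨ Fintype.card F = 5 := by
        rw [Nat.odd_iff] at hodd; omega
      rcases hF with hF | hF
      · exfalso
        have hc : Nat.card K = 12 := by
          have := Invol.GW.card_PSLTwo (F := F) hodd
          rw [hF, ← Nat.card_congr e.toEquiv] at this
          omega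
        have hd := P.dvd_factorial
        have h2 : n ∣ 2 ^ 2 * 3 := ⟨Nat.card P.X, by rw [mul_comm n, P.card_eq, hc]; rfl⟩
        have h3 : n ∣ 3 := (Nat.Coprime.pow_right 2 (Nat.coprime_two_right.2 P.odd)).dvd_of_dvd_mul_left h2
        have h4 := P.three_le
        obtain rfl : n = 3 := le_antisymm (Nat.le_of_dvd (by norm_num) h3) h4
        rw [hc] at hd
        norm_num [Nat.factorial] at hd
      · exact Or.inl (concl_five P hF e)
    · rcases lin_odd P hodd h7 e with ⟨hn, hF⟩ | ⟨hn, hF⟩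
      · exact Or.inl (Or.inr (Or.inr (Or.inr ⟨hn, Or.inl ⟨F, i1, i2, hF, ⟨e⟩⟩⟩)))
      · refine Or.inr ⟨hn, ?_⟩
        have := Invol.GW.card_PSLTwo (F := F) hodd
        rw [hF, ← Nat.card_congr e.toEquiv] at this
        omega
  · exact Or.inl (concl_suzuki P h)
  · exact Or.inl (concl_psu hnc P hk hF e)
  · exact Or.inl (concl_m11 P h)
  · exact (not_j1 hnc P h).elim

variable {G : Type u} [Group G] [Finite G] {Ω : Type v} [Fintype Ω] [MulAction G Ω] [FaithfulSMul G Ω]

/-- A simple group of order 168 in degree seven: an element of order four fixing two points is an odd permutation. -/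
theorem Hyp.not_seven (h : Hyp G Ω) {L : Subgroup G} [L.Normal] [IsSimpleGroup L] (hnc : ¬ IsMulCommutative L)
    (htr : ∀ x y : Ω, ∃ n ∈ L, n • x = y) (h7 : Fintype.card Ω = 7) (h168 : Nat.card L = 168) : False := by
  classical
  haveI : Fact (Nat.Prime 2) := ⟨Nat.prime_two⟩
  obtain ⟨a, b, hab⟩ := h.nontriv
  set Gab := stabilizer G a ⊓ stabilizer G b
  -- the two-point stabiliser of `G` has index 42
  haveI : IsPretransitive G Ω := ⟨fun x y => by
    obtain ⟨n, -, e⟩ := htr x y
    exact ⟨n, e⟩⟩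
  have hidx : Gab.index = 42 := by
    have h1 : (stabilizer G a).index = 7 := by
      rw [index_stabilizer_of_transitive, Nat.card_eq_fintype_card, h7]
    have h2 : Gab.relIndex (stabilizer G a) = 6 := by
      rw [Subgroup.relIndex, show Gab.subgroupOf (stabilizer G a) = stabilizer (stabilizer G a) b from ?_,
        index_stabilizer, show orbit (stabilizer G a) b = Set.univ \ {a} from ?_,
        Set.ncard_sdiff_singleton_of_mem (Set.mem_univ a), Set.ncard_univ, Nat.card_eq_fintype_card, h7]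
      · ext x
        refine ⟨?_, fun hx => ?_⟩
        · rintro ⟨⟨g, hg⟩, rfl⟩
          exact ⟨trivial, fun e => hab (smul_left_cancel g ((mem_stabilizer_iff.1 hg).trans e.symm))⟩
        · obtain ⟨g, hga, hgb⟩ := h.two a b a x hab (Ne.symm hx.2)
          exact ⟨⟨g, hga⟩, hgb⟩
      · ext g
        exact ⟨fun hg => (mem_subgroupOf.1 hg).2, fun hg => mem_subgroupOf.2 ⟨g.2, hg⟩⟩
    rw [← relIndex_mul_index (inf_le_left : Gab ≤ stabilizer G a), h1, h2]
  have h4 : 4 ∣ Nat.card (L ⊓ Gab : Subgroup G) := by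
    have e1 := card_mul_index Gab
    have e2 : L.relIndex Gab ∣ L.index := Subgroup.relIndex_dvd_index_of_normal L Gab
    have e3 := card_mul_index L
    have e4 : Nat.card (L ⊓ Gab : Subgroup G) * L.relIndex Gab = Nat.card Gab := by
      rw [← card_mul_index (L.subgroupOf Gab), Subgroup.relIndex]
      congr 1
      rw [← inf_subgroupOf_right]
      exact (Nat.card_congr (subgroupOfEquivOfLe (inf_le_right : L ⊓ Gab ≤ Gab)).toEquiv).symm
    obtain ⟨d, hd⟩ := e2
    rw [hidx, ← e4, ← e3, h168, hd] at e1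
    have h0 : L.relIndex Gab ≠ 0 := fun e0 => by
      rw [e0, mul_zero] at e4
      exact Nat.card_pos.ne' e4.symm
    refine ⟨d, Nat.eq_of_mul_eq_mul_left (Nat.pos_of_ne_zero h0) ?_⟩
    rw [mul_comm (L.relIndex Gab) (Nat.card _)]
    have : Nat.card (L ⊓ Gab : Subgroup G) * L.relIndex Gab * 42 = L.relIndex Gab * (4 * d) * 42 := by
      rw [e1]; ring
    omega
  obtain ⟨Q, hQ⟩ := Sylow.exists_subgroup_card_pow_prime (G := (L ⊓ Gab : Subgroup G)) 2 (n := 2) h4
  let V : Subgroup G := Q.map (L ⊓ Gab).subtype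
  have hV4 : Nat.card V = 4 := by rw [card_map_of_injective (subtype_injective _), hQ]; rfl
  have hVle : V ≤ L ⊓ Gab := map_subtype_le _
  -- it is not a four-group, so it has an element of order four
  obtain ⟨g, hgV, hg4⟩ : ∃ g ∈ V, orderOf g = 4 := by
    by_contra hno
    push Not at hno
    refine hab (h.klein V ⟨hV4, ?_⟩ a b (fun v hv => (hVle hv).2.1) fun v hv => (hVle hv).2.2)
    have hsq : ∀ v : V, v ^ 2 = 1 := fun v => by
      have h1 : orderOf v ∣ 2 ^ 2 := (orderOf_dvd_natCard v).trans (dvd_of_eq hV4)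
      obtain ⟨j, hj, hj'⟩ := (Nat.dvd_prime_pow Nat.prime_two).1 h1
      have h2 : j ≠ 2 := fun e => hno v v.2 (by rw [Subgroup.orderOf_coe, hj', e]; rfl)
      exact orderOf_dvd_iff_pow_eq_one.1 (hj' ▸ (pow_dvd_pow 2 (show j ≤ 1 by omega)))
    refine Nat.dvd_antisymm (Monoid.exponent_dvd_of_forall_pow_eq_one hsq) ?_
    haveI : Nontrivial V := Finite.one_lt_card_iff_nontrivial.1 (by omega)
    obtain ⟨x, hx⟩ := exists_ne (1 : V)
    exact (orderOf_eq_prime (hsq x) hx) ▸ Monoid.order_dvd_exponent x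
  obtain ⟨hgL, hga, hgb⟩ := hVle hgV
  -- the permutations of `L` are even
  let φ : L →* Equiv.Perm Ω := (toPermHom G Ω).comp L.subtype
  have hφ : Function.Injective φ := (toPerm_injective (α := G) (β := Ω)).comp L.subtype_injective
  have hev : ∀ l : L, Equiv.Perm.sign (φ l) = 1 := by
    intro l
    rcases (inferInstance : ((Equiv.Perm.sign).comp φ).ker.Normal).eq_bot_or_eq_top with e | e
    · refine absurd ⟨⟨fun x y => (MonoidHom.ker_eq_bot_iff _).1 e ?_⟩⟩ hnc
      rw [map_mul, map_mul, mul_comm]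
    · exact MonoidHom.mem_ker.1 (e ▸ mem_top l : l ∈ ((Equiv.Perm.sign).comp φ).ker)
  set σ := φ ⟨g, hgL⟩
  have hσ4 : orderOf σ = 4 := by
    rw [orderOf_injective φ hφ, Subgroup.orderOf_mk, hg4]
  have hsupp : σ.support.card ≤ 5 := by
    have hsub : σ.support ⊆ (Finset.univ.erase a).erase b := fun x hx => by
      rw [Equiv.Perm.mem_support] at hx
      refine Finset.mem_erase.2 ⟨fun e => hx ?_, Finset.mem_erase.2 ⟨fun e => hx ?_, Finset.mem_univ x⟩⟩
      · rw [e]; exact hgb
      · rw [e]; exact hga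
    refine (Finset.card_le_card hsub).trans ?_
    rw [Finset.card_erase_of_mem (Finset.mem_erase.2 ⟨hab.symm, Finset.mem_univ b⟩),
      Finset.card_erase_of_mem (Finset.mem_univ a), Finset.card_univ, h7]
  have hsign := hev ⟨g, hgL⟩
  rw [← Equiv.Perm.sum_cycleType] at hsupp
  rw [show φ ⟨g, hgL⟩ = σ from rfl, Equiv.Perm.sign_of_cycleType] at hsign
  have hlcm := Equiv.Perm.lcm_cycleType σ
  rw [hσ4] at hlcm
  have hmem : ∀ k ∈ σ.cycleType, k = 2 ∨ k = 4 := fun k hk => by
    have h1 := hlcm ▸ Multiset.dvd_lcm hk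
    have h2 := Equiv.Perm.two_le_of_mem_cycleType hk
    have := Nat.le_of_dvd (by norm_num) h1
    interval_cases k <;> omega
  have h4mem : 4 ∈ σ.cycleType := by
    by_contra hno
    have : σ.cycleType.lcm ∣ 2 := Multiset.lcm_dvd.2 fun k hk => by
      rcases hmem k hk with rfl | rfl
      · exact dvd_rfl
      · exact absurd hk hno
    rw [hlcm] at this
    norm_num at this
  obtain ⟨s, hs⟩ := Multiset.exists_cons_of_mem h4mem
  have hs0 : s = 0 := Multiset.eq_zero_of_forall_notMem fun k hk => by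
    have h1 := Equiv.Perm.two_le_of_mem_cycleType (σ := σ) (by rw [hs]; exact Multiset.mem_cons_of_mem hk)
    have h2 := Multiset.le_sum_of_mem hk
    rw [hs, Multiset.sum_cons] at hsupp
    omega
  rw [hs, hs0] at hsign
  simp at hsign
  exact absurd hsign (by decide)

/-- The statement, given the classification of simple groups with a proper 2-generated core. -/
theorem main (hcore : CoreInput.{u}) (hodd : Odd (Fintype.card Ω))
    (h2t : ∀ a b c d : Ω, a ≠ b → c ≠ d → ∃ g : G, g • a = c ∧ g • b = d) (a b : Ω) (hab : a ≠ b)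
    (hS : ∀ S : Sylow 2 ↥(stabilizer G a ⊓ stabilizer G b),
      IsCyclic ↥(S : Subgroup ↥(stabilizer G a ⊓ stabilizer G b)) ∨
        ∃ n : ℕ, Nonempty (↥(S : Subgroup ↥(stabilizer G a ⊓ stabilizer G b)) ≃* QuaternionGroup (2 ^ (n + 1)))) :
    (∃ N : Subgroup G, N.Normal ∧ (∀ x y : Ω, ∃ n ∈ N, n • x = y) ∧ ∀ x : Ω, ∀ n ∈ N, n • x = x → n = 1) ∨
      (∃ L : Subgroup G, L.Normal ∧ L ≠ ⊥ ∧ (∀ N : Subgroup G, N.Normal → N ≠ ⊥ → L ≤ N) ∧
        centralizer (L : Set G) = ⊥ ∧ Concl (↥L) (Fintype.card Ω)) := by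
  have h := hyp_of_rankOne hodd h2t a b hab hS
  rcases h.dichotomy with hr | ⟨L, hLn, hLne, hmin, hC, hs, hnc, htr⟩
  · exact Or.inl hr
  refine Or.inr ⟨L, hLn, hLne, hmin, hC, ?_⟩
  haveI := hLn
  haveI := hs
  obtain ⟨P⟩ := h.pt hnc hC htr
  rcases identify hnc P (hcore L hnc P.proper) with hc | ⟨h7, h168⟩
  · exact hc
  · exact (h.not_seven hnc htr h7 h168).elim

end Cfsg.Agent.Fus.OddTwoTrans
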