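import Cfsg.Agent.Lib.Fus.FourConnected
import Cfsg.Agent.Lib.Invol.SmallCent.Sylow
import Cfsg.Agent.S0700
import Cfsg.Agent.S0205
import Cfsg.Prelude.Def_ClassificationK
import Cfsg.Prelude.Def_KGroupFacts

/-!
# Doubly transitive groups of odd degree with two-point stabiliser of rank one: the reduction

Every four-group fixes exactly one point, so a minimal normal subgroup is regular or a simple group with a proper
2-generated core contained in a point stabiliser.
-/

set_option autoImplicit false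
set_option linter.unusedSectionVars false
set_option linter.style.haveILetI false

namespace Cfsg.Agent.Fus.OddTwoTrans

open Subgroup MulAction

universe u v

variable {G : Type u} [Group G] [Finite G] {Ω : Type v} [Fintype Ω] [MulAction G Ω]

/-- Odd degree, double transitivity, and no four-group fixes two points. -/
structure Hyp (G : Type u) [Group G] (Ω : Type v) [Fintype Ω] [MulAction G Ω] : Prop where
  odd : Odd (Fintype.card Ω)
  two : ∀ a b c d : Ω, a ≠ b → c ≠ d → ∃ g : G, g • a = c ∧ g • b = d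
  klein : ∀ V : Subgroup G, IsKleinFour V → ∀ c d : Ω, (∀ v ∈ V, v • c = c) → (∀ v ∈ V, v • d = d) → c = d
  nontriv : ∃ a b : Ω, a ≠ b

/-- A four-group does not embed in a cyclic or generalised quaternion group. -/
theorem no_klein_of_rankOne {H : Type*} [Group H] [Finite H]
    (hH : IsCyclic H ∨ ∃ n : ℕ, Nonempty (H ≃* QuaternionGroup (2 ^ (n + 1)))) (V : Subgroup H) :
    ¬ IsKleinFour V := by
  intro hV
  rcases hH with hc | ⟨n, ⟨e⟩⟩
  · haveI := hc
    haveI := hV
    exact IsKleinFour.not_isCyclic (inferInstance : IsCyclic V)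
  · exact Invol.SmallCent.quaternion_no_klein _ (Fus.FourGraph.isKleinFour_map e.toMonoidHom e.injective hV)

theorem hyp_of_rankOne (hodd : Odd (Fintype.card Ω))
    (h2t : ∀ a b c d : Ω, a ≠ b → c ≠ d → ∃ g : G, g • a = c ∧ g • b = d) (a b : Ω) (hab : a ≠ b)
    (hS : ∀ S : Sylow 2 ↥(stabilizer G a ⊓ stabilizer G b),
      IsCyclic ↥(S : Subgroup ↥(stabilizer G a ⊓ stabilizer G b)) ∨
        ∃ n : ℕ, Nonempty (↥(S : Subgroup ↥(stabilizer G a ⊓ stabilizer G b)) ≃* QuaternionGroup (2 ^ (n + 1)))) :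
    Hyp G Ω := by
  refine ⟨hodd, h2t, fun V hV c d hc hd => ?_, a, b, hab⟩
  by_contra hne
  obtain ⟨g, hgc, hgd⟩ := h2t c d a b hne hab
  set K := stabilizer G a ⊓ stabilizer G b
  let W := V.map (MulAut.conj g).toMonoidHom
  have hW : IsKleinFour W := Fus.FourGraph.isKleinFour_map _ (MulAut.conj g).injective hV
  have hWK : W ≤ K := by
    rintro _ ⟨v, hv, rfl⟩
    refine ⟨?_, ?_⟩ <;> show (g * v * g⁻¹) • _ = _
    · rw [mul_smul, mul_smul, inv_smul_eq_iff.2 hgc.symm, hc v hv, hgc]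
    · rw [mul_smul, mul_smul, inv_smul_eq_iff.2 hgd.symm, hd v hv, hgd]
  have hW' : IsKleinFour (W.subgroupOf K) :=
    ⟨by rw [Nat.card_congr (subgroupOfEquivOfLe hWK).toEquiv, hW.card_four],
      by rw [Monoid.exponent_eq_of_mulEquiv (subgroupOfEquivOfLe hWK), hW.exponent_two]⟩
  obtain ⟨S, hS'⟩ := (Fus.FourGraph.isPGroup_klein hW').exists_le_sylow
  refine no_klein_of_rankOne (hS S) ((W.subgroupOf K).subgroupOf (S : Subgroup ↥K)) ?_
  exact ⟨by rw [Nat.card_congr (subgroupOfEquivOfLe hS').toEquiv, hW'.card_four],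
    by rw [Monoid.exponent_eq_of_mulEquiv (subgroupOfEquivOfLe hS'), hW'.exponent_two]⟩

theorem Hyp.exists_fixed (h : Hyp G Ω) {Q : Subgroup G} (hQ : IsPGroup 2 Q) :
    ∃ c : Ω, ∀ v ∈ Q, v • c = c := by
  haveI : Fact (Nat.Prime 2) := ⟨Nat.prime_two⟩
  have hm := hQ.card_modEq_card_fixedPoints Ω
  have hne : Nat.card (fixedPoints Q Ω) ≠ 0 := by
    intro h0
    rw [h0, Nat.card_eq_fintype_card] at hm
    have := Nat.odd_iff.1 h.odd
    unfold Nat.ModEq at hm
    omega
  obtain ⟨⟨c, hc⟩⟩ := (Nat.card_ne_zero.1 hne).1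
  exact ⟨c, fun v hv => hc ⟨v, hv⟩⟩

/-- A subgroup of rank two fixing a point has its normaliser fixing that point. -/
theorem Hyp.normalizer_fix (h : Hyp G Ω) {V Q : Subgroup G} (hV : IsKleinFour V) (hVQ : V ≤ Q) {c : Ω}
    (hc : ∀ v ∈ Q, v • c = c) {g : G} (hg : g ∈ normalizer (Q : Set G)) : g • c = c := by
  refine (h.klein V hV c (g • c) (fun v hv => hc v (hVQ hv)) fun v hv => ?_).symm
  have hq : g⁻¹ * v * g ∈ Q := by simpa using (mem_normalizer_iff.1 (inv_mem hg) v).1 (hVQ hv)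
  calc v • g • c = g • ((g⁻¹ * v * g) • c) := by rw [← mul_smul, ← mul_smul]; congr 1; group
    _ = g • c := by rw [hc _ hq]

/-- What is left of the action on the simple group `K` for the identification. -/
structure Pt (K : Type u) [Group K] (n : ℕ) where
  S : Sylow 2 K
  X : Subgroup K
  klein_le : ∃ V : Subgroup K, IsKleinFour V ∧ V ≤ (S : Subgroup K)
  core_le : Fus.FourGraph.core S ≤ X
  index_eq : X.index = n
  three_le : 3 ≤ n
  odd : Odd n
  dvd : n * (n - 1) ∣ Nat.card K * Nat.card (Cfsg.Out K)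

theorem Pt.ne_top {K : Type u} [Group K] {n : ℕ} (P : Pt K n) : P.X ≠ ⊤ := fun e => by
  have h1 := P.index_eq
  have h2 := P.three_le
  rw [e, index_top] at h1
  omega

theorem Pt.proper {K : Type u} [Group K] [Finite K] {n : ℕ} (P : Pt K n) :
    Cfsg.HasProperTwoGeneratedCore K := by
  obtain ⟨V, hV, hVS⟩ := P.klein_le
  refine ⟨fun hr => ?_, P.S, fun e => P.ne_top (top_le_iff.1 (e ▸ P.core_le))⟩
  have hsq : ∀ v ∈ V, v ^ 2 = 1 := fun v hv =>
    congrArg Subtype.val (hV.exponent_two ▸ Monoid.pow_exponent_eq_one (⟨v, hv⟩ : V))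
  have := hr V ⟨⟨fun a b => mul_comm_of_exponent_two hV.exponent_two a b⟩⟩ hsq
  rw [hV.card_four] at this
  norm_num at this

section Minimal

variable [FaithfulSMul G Ω]

/-- The dichotomy of the statement: regular normal subgroup, or the simple socle. -/
theorem Hyp.dichotomy (h : Hyp G Ω) :
    (∃ N : Subgroup G, N.Normal ∧ (∀ x y : Ω, ∃ n ∈ N, n • x = y) ∧ ∀ x : Ω, ∀ n ∈ N, n • x = x → n = 1) ∨
      ∃ L : Subgroup G, L.Normal ∧ L ≠ ⊥ ∧ (∀ N : Subgroup G, N.Normal → N ≠ ⊥ → L ≤ N) ∧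
        centralizer (L : Set G) = ⊥ ∧ IsSimpleGroup L ∧ ¬ IsMulCommutative L ∧
        (∀ x y : Ω, ∃ n ∈ L, n • x = y) := by
  classical
  refine or_iff_not_imp_left.2 fun hreg => ?_
  push Not at hreg
  obtain ⟨a, b, hab⟩ := h.nontriv
  haveI : Nontrivial Ω := ⟨⟨a, b, hab⟩⟩
  -- nontrivial normal subgroups are transitive
  have htrans : ∀ N : Subgroup G, N.Normal → N ≠ ⊥ → ∀ x y : Ω, ∃ n ∈ N, n • x = y := by
    intro N hN hne x y
    rcases eq_or_ne x y with rfl | hxy
    · exact ⟨1, one_mem _, one_smul _ _⟩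
    obtain ⟨m, hm, hm1⟩ := N.bot_or_exists_ne_one.resolve_left hne
    obtain ⟨z, hz⟩ : ∃ z : Ω, m • z ≠ z := by
      by_contra hno
      push Not at hno
      exact hm1 (eq_of_smul_eq_smul (α := Ω) fun w => by rw [hno w, one_smul])
    obtain ⟨g, hgx, hgy⟩ := h.two z (m • z) x y (Ne.symm hz) hxy
    refine ⟨g * m * g⁻¹, hN.conj_mem m hm g, ?_⟩
    rw [mul_smul, mul_smul, inv_smul_eq_iff.2 hgx.symm, hgy]
  -- a normal subgroup commuting with a nontrivial normal subgroup is trivial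
  have hcomm : ∀ N M : Subgroup G, N.Normal → M.Normal → M ≠ ⊥ →
      (∀ n ∈ N, ∀ m ∈ M, n * m = m * n) → N = ⊥ := by
    intro N M hN hM hMne hc
    by_contra hne
    obtain ⟨x, n, hn, hx, hn1⟩ := hreg N hN (htrans N hN hne)
    refine hn1 (eq_of_smul_eq_smul (α := Ω) fun w => ?_)
    obtain ⟨m, hm, rfl⟩ := htrans M hM hMne x w
    rw [← mul_smul, hc n hn m hm, mul_smul, hx, one_smul]
  have hGne : (⊤ : Subgroup G) ≠ ⊥ := by
    obtain ⟨g, hg, -⟩ := h.two a b b a hab hab.symm
    intro e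
    exact hab ((one_smul G a).symm.trans ((mem_bot.1 (e ▸ mem_top g : g ∈ (⊥ : Subgroup G))) ▸ hg))
  obtain ⟨L, ⟨hLn, hLne⟩, hLmin⟩ := WellFounded.has_min (wellFounded_lt (α := Subgroup G))
    {N | N.Normal ∧ N ≠ ⊥} ⟨⊤, inferInstance, hGne⟩
  haveI := hLn
  have hmin : ∀ M : Subgroup G, M.Normal → M ≤ L → M = ⊥ ∨ M = L := fun M hM hle =>
    or_iff_not_imp_left.2 fun hne => eq_of_le_of_not_lt hle (hLmin M ⟨hM, hne⟩)
  have hC : centralizer (L : Set G) = ⊥ :=
    hcomm _ L inferInstance hLn hLne fun n hn m hm => ((mem_centralizer_iff.1 hn) m hm).symm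
  have hnc : ¬ IsMulCommutative L := fun hc =>
    hLne (hcomm L L hLn hLn hLne fun n hn m hm =>
      congrArg Subtype.val (hc.is_comm.comm (⟨n, hn⟩ : L) ⟨m, hm⟩))
  refine ⟨L, hLn, hLne, fun N hN hne => ?_, hC, ?_, hnc, htrans L hLn hLne⟩
  · haveI := hN
    rcases hmin (N ⊓ L) inferInstance inf_le_right with e | e
    · exfalso
      refine hne (hcomm N L hN hLn hLne fun n hn m hm => ?_)
      exact Subgroup.commute_of_normal_of_disjoint N L hN hLn (disjoint_iff.2 e) n m hn hm
    · exact e ▸ inf_le_left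
  · -- Burnside
    let φ : G →* Equiv.Perm Ω := toPermHom G Ω
    have hφ : Function.Injective φ := toPerm_injective
    let e : G ≃* φ.range := MonoidHom.ofInjective hφ
    have he : ∀ (g : G) (x : Ω), e g • x = g • x := fun g x => rfl
    have h2 : IsMultiplyPretransitive φ.range Ω 2 := is_two_pretransitive_iff.2 fun {p q r s} hpq hrs => by
      obtain ⟨g, h1, h2⟩ := h.two p q r s hpq hrs
      exact ⟨e g, (he g p).trans h1, (he g q).trans h2⟩
    haveI : (L.map e.toMonoidHom).Normal := hLn.map _ e.surjective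
    have hb := Cfsg.Agent.S0700.result φ.range h2 (L.map e.toMonoidHom)
      (fun hbot => hLne ((map_eq_bot_iff_of_injective L e.injective).1 hbot)) fun M hM hle => by
        rcases hmin (M.comap e.toMonoidHom) (hM.comap _) (fun x hx => by
          obtain ⟨y, hy, hye⟩ := hle (mem_comap.1 hx)
          exact e.injective hye ▸ hy) with h' | h'
        · left
          rw [← map_comap_eq_self_of_surjective (f := e.toMonoidHom) e.surjective M, h', Subgroup.map_bot]
        · right
          rw [← map_comap_eq_self_of_surjective (f := e.toMonoidHom) e.surjective M, h']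
    rcases hb with ⟨hc, -, -⟩ | ⟨hs, -⟩
    · exact absurd ⟨⟨fun x y => (L.equivMapOfInjective e.toMonoidHom e.injective).injective
        (by rw [map_mul, map_mul]; exact hc.is_comm.comm _ _)⟩⟩ hnc
    · haveI := hs
      exact MulEquiv.isSimpleGroup (L.equivMapOfInjective e.toMonoidHom e.injective)

/-- The point of `L` fixed by a Sylow 2-subgroup gives the data. -/
theorem Hyp.pt (h : Hyp G Ω) {L : Subgroup G} [L.Normal] [IsSimpleGroup L] (hnc : ¬ IsMulCommutative L)
    (hC : centralizer (L : Set G) = ⊥) (htr : ∀ x y : Ω, ∃ n ∈ L, n • x = y) :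
    Nonempty (Pt (↥L) (Fintype.card Ω)) := by
  classical
  obtain ⟨a, b, hab⟩ := h.nontriv
  obtain ⟨T⟩ : Nonempty (Sylow 2 L) := inferInstance
  have hcyc : ¬ IsCyclic L := fun _ => hnc IsCyclic.isMulCommutative
  have heven : Even (Nat.card L) := Nat.not_odd_iff_even.1 fun ho => hnc
    ⟨⟨IsSimpleGroup.comm_iff_isSolvable.2 (Cfsg.Agent.S0205.result ho)⟩⟩
  obtain ⟨E, hE⟩ := Invol.SmallCent.exists_klein hcyc heven
  obtain ⟨S, hES⟩ := (Fus.FourGraph.isPGroup_klein hE).exists_le_sylow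
  obtain ⟨c, hc⟩ := h.exists_fixed (IsPGroup.map S.isPGroup' L.subtype)
  let X : Subgroup L := stabilizer L c
  have hidx : X.index = Fintype.card Ω := by
    rw [index_stabilizer, show orbit L c = Set.univ from Set.eq_univ_of_forall fun y => by
      obtain ⟨n, hn, e⟩ := htr c y
      exact ⟨⟨n, hn⟩, e⟩, Set.ncard_univ, Nat.card_eq_fintype_card]
  have hn3 : 3 ≤ Fintype.card Ω := by
    have h1 : 1 < Fintype.card Ω := Fintype.one_lt_card_iff.2 ⟨a, b, hab⟩
    have := Nat.odd_iff.1 h.odd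
    omega
  refine ⟨⟨S, X, ⟨E, hE, hES⟩, iSup_le ?_, hidx, hn3, h.odd, ?_⟩⟩
  · rintro ⟨Q, hQS, hQ⟩ g hg
    obtain ⟨V, hV, hVQ⟩ := Fus.FourGraph.exists_klein_le hQ
    show (g : G) • c = c
    refine h.normalizer_fix (Fus.FourGraph.isKleinFour_map L.subtype L.subtype_injective hV)
      (map_mono hVQ) (c := c) ?_ (le_normalizer_map L.subtype ⟨g, hg, rfl⟩)
    rintro _ ⟨q, hq, rfl⟩
    exact hc _ ⟨q, hQS hq, rfl⟩
  · -- `G` embeds in `Aut L`
    let ψ : G →* MulAut L := MulAut.conjNormal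
    have hψ : Function.Injective ψ := by
      refine (injective_iff_map_eq_one ψ).2 fun g hg => ?_
      refine mem_bot.1 (hC ▸ mem_centralizer_iff.2 fun m hm => ?_)
      have h1 : g * m * g⁻¹ = m :=
        congrArg Subtype.val (DFunLike.congr_fun hg (⟨m, hm⟩ : L) : ψ g ⟨m, hm⟩ = ⟨m, hm⟩)
      exact (mul_inv_eq_iff_eq_mul.1 h1).symm
    have hG : Nat.card G ∣ Nat.card L * Nat.card (Cfsg.Out L) := by
      have hinn : Nat.card (Cfsg.Inn L) ∣ Nat.card L :=
        card_range_dvd (MulAut.conj (G := L))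
      refine (card_dvd_of_injective ψ hψ).trans ?_
      rw [card_eq_card_quotient_mul_card_subgroup (Cfsg.Inn L), mul_comm]
      exact Nat.mul_dvd_mul_right hinn _
    refine dvd_trans ?_ hG
    haveI : IsPretransitive G Ω := ⟨fun x y => by
      obtain ⟨n, -, e⟩ := htr x y
      exact ⟨n, e⟩⟩
    have h1 : (stabilizer G c).index = Fintype.card Ω := by
      rw [index_stabilizer_of_transitive, Nat.card_eq_fintype_card]
    haveI : Nontrivial Ω := ⟨⟨a, b, hab⟩⟩
    obtain ⟨d, hd⟩ := exists_ne c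
    have h2 : (stabilizer (stabilizer G c) d).index = Fintype.card Ω - 1 := by
      rw [index_stabilizer, show orbit (stabilizer G c) d = {x | x ≠ c} from ?_]
      · rw [show {x : Ω | x ≠ c} = Set.univ \ {c} by ext; simp, Set.ncard_diff_singleton_of_mem (Set.mem_univ c),
          Set.ncard_univ, Nat.card_eq_fintype_card]
      ext x
      refine ⟨?_, fun hx => ?_⟩
      · rintro ⟨⟨g, hg⟩, rfl⟩ e
        exact hd (smul_left_cancel g (e.trans (mem_stabilizer_iff.1 hg).symm))
      · obtain ⟨g, hgc, hgd⟩ := h.two c d c x hd.symm (Ne.symm hx)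
        exact ⟨⟨g, hgc⟩, hgd⟩
    have h3 := card_mul_index (stabilizer (stabilizer G c) d)
    have h4 := card_mul_index (stabilizer G c)
    rw [h2] at h3
    rw [h1, ← h3] at h4
    exact ⟨Nat.card (stabilizer (stabilizer G c) d), by rw [← h4]; ring⟩

end Minimal

end Cfsg.Agent.Fus.OddTwoTrans
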